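import Mathlib.AlgebraicTopology.AlternatingFaceMapComplex
import Mathlib.CategoryTheory.Abelian.Refinements
import Mathlib.CategoryTheory.Abelian.FunctorCategory
import Mathlib.CategoryTheory.Preadditive.Injective.Basic
import Mathlib.Algebra.Homology.ShortComplex.HomologicalComplex
import Mathlib.CategoryTheory.Limits.Shapes.Products

set_option autoImplicit false
set_option linter.style.haveILetI false
set_option linter.unusedSectionVars false
set_option backward.isDefEq.respectTransparency false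
set_option backward.isDefEq.respectTransparency.types false

open CategoryTheory CategoryTheory.Limits Simplicial AlgebraicTopology

universe v u

noncomputable section

namespace Groth.Agent.CosimpLim16

variable {A : Type u} [Category.{v} A] [Abelian A] [HasLimitsOfSize.{0, 0} A]

/-- The arrows out of a simplex. -/
abbrev Idx (x : SimplexCategory) : Type := Σ m : ℕ, (x ⟶ ⦋m⦌)

variable (F : SimplexCategory ⥤ A)

/-- The product over the arrows out of a simplex. -/
abbrev prodAt (x : SimplexCategory) : A := ∏ᶜ fun i : Idx x => F.obj ⦋i.1⦌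

/-- The projections. -/
def proj {x : SimplexCategory} (m : ℕ) (f : x ⟶ ⦋m⦌) : prodAt F x ⟶ F.obj ⦋m⦌ :=
  Pi.π (fun i : Idx x => F.obj ⦋i.1⦌) ⟨m, f⟩

/-- The lift. -/
def liftP {T : A} {x : SimplexCategory} (k : ∀ (m : ℕ), (x ⟶ ⦋m⦌) → (T ⟶ F.obj ⦋m⦌)) :
    T ⟶ prodAt F x :=
  Pi.lift fun i : Idx x => k i.1 i.2

@[reassoc (attr := simp)]
lemma liftP_proj {T : A} {x : SimplexCategory} (k : ∀ (m : ℕ), (x ⟶ ⦋m⦌) → (T ⟶ F.obj ⦋m⦌))
    (m : ℕ) (f : x ⟶ ⦋m⦌) : liftP F k ≫ proj F m f = k m f :=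
  Pi.lift_π _ _

lemma prod_hom_ext {T : A} {x : SimplexCategory} {a b : T ⟶ prodAt F x}
    (h : ∀ (m : ℕ) (f : x ⟶ ⦋m⦌), a ≫ proj F m f = b ≫ proj F m f) : a = b :=
  Pi.hom_ext _ _ fun i => h i.1 i.2

/-- The product functor `x ↦ ∏_{x ⟶ [m]} F [m]`. -/
def prodObj : SimplexCategory ⥤ A where
  obj x := prodAt F x
  map {x y} g := liftP F fun m f => proj F m (g ≫ f)
  map_id x := prod_hom_ext F fun m f => by simp
  map_comp {x y z} g g' := prod_hom_ext F fun m f => by simp

@[reassoc]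
lemma prodObj_map_π {x y : SimplexCategory} (g : x ⟶ y) (m : ℕ) (f : y ⟶ ⦋m⦌) :
    (prodObj F).map g ≫ proj F m f = proj F m (g ≫ f) := by
  simp [prodObj]

/-- The canonical map into the product functor. -/
def toProd : F ⟶ prodObj F where
  app x := liftP F fun m f => F.map f
  naturality {x y} g := prod_hom_ext F fun m f => by simp [prodObj]

instance : Mono (toProd F) := by
  have : ∀ x, Mono ((toProd F).app x) := fun x => by
    have e : (toProd F).app x ≫ proj F x.len (𝟙 x) = 𝟙 (F.obj x) :=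
      by simp [toProd]
    exact SplitMono.mono ⟨_, e⟩
  exact NatTrans.mono_of_mono_app _

/-- The cone on a map of simplices. -/
def cone {n m : ℕ} (f : ⦋n⦌ ⟶ ⦋m⦌) : ⦋n + 1⦌ ⟶ ⦋m⦌ :=
  SimplexCategory.mkHom ⟨Fin.cases 0 (fun j => f.toOrderHom j), by
    intro a b hab
    induction a using Fin.cases with
    | zero => simp
    | succ a =>
      induction b using Fin.cases with
      | zero => exact absurd hab (by simp [Fin.le_def])
      | succ b =>
        simp only [Fin.cases_succ]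
        exact f.toOrderHom.monotone (Fin.succ_le_succ_iff.mp hab)⟩

lemma δ_zero_cone {n m : ℕ} (f : ⦋n⦌ ⟶ ⦋m⦌) : SimplexCategory.δ 0 ≫ cone f = f := by
  ext j
  simp [cone, SimplexCategory.δ]

lemma δ_succ_cone {n m : ℕ} (f : ⦋n + 1⦌ ⟶ ⦋m⦌) (i : Fin (n + 2)) :
    SimplexCategory.δ i.succ ≫ cone f = cone (SimplexCategory.δ i ≫ f) := by
  ext j
  induction j using Fin.cases with
  | zero => simp [cone, SimplexCategory.δ]
  | succ j => simp [cone, SimplexCategory.δ, Fin.succ_succAbove_succ]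

/-- The homotopy. -/
def hty (n : ℕ) : (prodObj F).obj ⦋n + 1⦌ ⟶ (prodObj F).obj ⦋n⦌ :=
  liftP F fun m f => proj F m (cone f)

lemma hty_identity (n : ℕ) :
    (∑ i : Fin (n + 3), (-1 : ℤ) ^ (i : ℕ) • (prodObj F).map (SimplexCategory.δ i)) ≫ hty F (n + 1)
      + hty F n ≫ (∑ i : Fin (n + 2), (-1 : ℤ) ^ (i : ℕ) • (prodObj F).map (SimplexCategory.δ i))
      = 𝟙 _ := by
  refine prod_hom_ext F fun m f => ?_
  have e1 : ∀ (k : ℕ) (g : ⦋k⦌ ⟶ ⦋m⦌), hty F k ≫ proj F m g = proj F m (cone g) := fun k g => by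
    simp [hty]
  simp only [Preadditive.add_comp, Category.assoc, Preadditive.sum_comp, Preadditive.comp_sum,
    Preadditive.zsmul_comp, Preadditive.comp_zsmul, prodObj_map_π, e1, Category.id_comp]
  rw [Fin.sum_univ_succ]
  simp only [δ_zero_cone, δ_succ_cone, Fin.val_zero, pow_zero, one_smul, Fin.val_succ, pow_succ,
    mul_neg, mul_one, neg_smul, Finset.sum_neg_distrib]
  abel

/-- The alternating coface complex of an injective cosimplicial object is exact in positive degrees. -/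
lemma exactAt_of_injective [Injective F] (n : ℕ) :
    ((alternatingCofaceMapComplex A).obj F).ExactAt (n + 1) := by
  obtain ⟨r, hr⟩ : ∃ r : prodObj F ⟶ F, toProd F ≫ r = 𝟙 F :=
    ⟨Injective.factorThru (𝟙 F) (toProd F), Injective.comp_factorThru _ _⟩
  rw [HomologicalComplex.exactAt_iff' _ n (n + 1) (n + 2) (by simp) (by simp),
    ShortComplex.exact_iff_exact_up_to_refinements]
  intro T (x : T ⟶ F.obj ⦋n + 1⦌) hx
  refine ⟨T, 𝟙 T, inferInstance,
    x ≫ (toProd F).app ⦋n + 1⦌ ≫ hty F n ≫ r.app ⦋n⦌, ?_⟩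
  have d1 : ∀ k, ((alternatingCofaceMapComplex A).obj F).d k (k + 1) =
      ∑ i : Fin (k + 2), (-1 : ℤ) ^ (i : ℕ) • F.map (SimplexCategory.δ i) := fun k => by
    exact CochainComplex.of_d (fun n => F.obj ⦋n⦌) (AlternatingCofaceMapComplex.objD F) k
  change x ≫ ((alternatingCofaceMapComplex A).obj F).d (n + 1) (n + 1 + 1) = 0 at hx
  change 𝟙 T ≫ x = (x ≫ (toProd F).app ⦋n + 1⦌ ≫ hty F n ≫ r.app ⦋n⦌) ≫
    ((alternatingCofaceMapComplex A).obj F).d n (n + 1)
  rw [d1] at hx
  rw [d1, Category.id_comp]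
  have e1 : (toProd F).app ⦋n + 1⦌ ≫ r.app ⦋n + 1⦌ = 𝟙 _ := by
    rw [← NatTrans.comp_app, hr]; rfl
  calc x = x ≫ (toProd F).app ⦋n + 1⦌ ≫ (𝟙 _) ≫ r.app ⦋n + 1⦌ := by
        rw [Category.id_comp, e1]; exact (Category.comp_id x).symm
    _ = _ := ?_
  rw [← hty_identity F n]
  simp only [Preadditive.add_comp, Preadditive.comp_add, Category.assoc]
  have e2 : x ≫ (toProd F).app ⦋n + 1⦌ ≫
      (∑ i : Fin (n + 3), (-1 : ℤ) ^ (i : ℕ) • (prodObj F).map (SimplexCategory.δ i)) = 0 := by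
    have : (toProd F).app ⦋n + 1⦌ ≫
        (∑ i : Fin (n + 3), (-1 : ℤ) ^ (i : ℕ) • (prodObj F).map (SimplexCategory.δ i)) =
        (∑ i : Fin (n + 3), (-1 : ℤ) ^ (i : ℕ) • F.map (SimplexCategory.δ i)) ≫
          (toProd F).app ⦋n + 2⦌ := by
      simp only [Preadditive.comp_sum, Preadditive.sum_comp, Preadditive.comp_zsmul,
        Preadditive.zsmul_comp, NatTrans.naturality]
    rw [this, reassoc_of% hx, zero_comp]
  rw [reassoc_of% e2, zero_comp, zero_add]
  simp only [Preadditive.comp_sum, Preadditive.sum_comp, Preadditive.comp_zsmul,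
    Preadditive.zsmul_comp, Category.assoc, NatTrans.naturality]

end Groth.Agent.CosimpLim16
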