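import Groth.Agent.Lib.CosimpLim16.Homotopy
import Groth.Agent.Lib.RDerLES.Horseshoe
import Mathlib.CategoryTheory.Abelian.RightDerived
import Mathlib.Algebra.Homology.HomologySequence
import Mathlib.Algebra.Homology.HomologicalComplexAbelian
import Mathlib.CategoryTheory.Limits.Preserves.FunctorCategory

set_option autoImplicit false
set_option linter.style.haveILetI false
set_option linter.unusedSectionVars false
set_option backward.isDefEq.respectTransparency false
set_option backward.isDefEq.respectTransparency.types false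

open CategoryTheory CategoryTheory.Limits Simplicial AlgebraicTopology

universe v u

noncomputable section

namespace Groth.Agent.CosimpLim16

variable (A : Type u) [Category.{v} A] [Abelian A] [HasLimitsOfSize.{0, 0} A]

/-- The alternating coface complex functor, on the functor category. -/
abbrev K : (SimplexCategory ⥤ A) ⥤ CochainComplex A ℕ := alternatingCofaceMapComplex A

instance K_additive : (K A).Additive where
  map_add {X Y f g} := by ext n; rfl

variable {A}

lemma K_d (F : SimplexCategory ⥤ A) (k : ℕ) : ((K A).obj F).d k (k + 1) =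
    ∑ i : Fin (k + 2), (-1 : ℤ) ^ (i : ℕ) • F.map (SimplexCategory.δ i) :=
  CochainComplex.of_d (fun n => F.obj ⦋n⦌) (AlternatingCofaceMapComplex.objD F) k

lemma K_d₀ (F : SimplexCategory ⥤ A) : ((K A).obj F).d 0 1 =
    F.map (SimplexCategory.δ 0) - F.map (SimplexCategory.δ 1) := by
  refine (K_d F 0).trans ?_
  rw [Fin.sum_univ_two]
  simp [sub_eq_add_neg]

lemma π_d₀ (F : SimplexCategory ⥤ A) :
    (limit.π F ⦋0⦌ : limit F ⟶ ((K A).obj F).X 0) ≫ ((K A).obj F).d 0 1 = 0 := by
  rw [K_d₀]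
  exact (Preadditive.comp_sub _ _ _).trans (sub_eq_zero.2 ((limit.w F _).trans (limit.w F _).symm))

lemma const_eq (F : SimplexCategory ⥤ A) {T : A} (s : T ⟶ F.obj ⦋0⦌)
    (hs : s ≫ F.map (SimplexCategory.δ 0) = s ≫ F.map (SimplexCategory.δ 1))
    {x : SimplexCategory} (a b : Fin (x.len + 1)) (hab : a ≤ b) :
    s ≫ F.map (SimplexCategory.const ⦋0⦌ x a) = s ≫ F.map (SimplexCategory.const ⦋0⦌ x b) := by
  let e : ⦋1⦌ ⟶ x := SimplexCategory.mkHom ⟨![a, b], by
    intro i j h
    fin_cases i <;> fin_cases j <;> simp_all⟩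
  have h0 : SimplexCategory.δ 0 ≫ e = SimplexCategory.const ⦋0⦌ x b := by
    ext j; fin_cases j; rfl
  have h1 : SimplexCategory.δ 1 ≫ e = SimplexCategory.const ⦋0⦌ x a := by
    ext j; fin_cases j; rfl
  rw [← h0, ← h1, F.map_comp, F.map_comp, reassoc_of% hs]

/-- The cone attached to an element of the equalizer of the two cofaces. -/
def coneOf (F : SimplexCategory ⥤ A) {T : A} (s : T ⟶ F.obj ⦋0⦌)
    (hs : s ≫ F.map (SimplexCategory.δ 0) = s ≫ F.map (SimplexCategory.δ 1)) : Cone F where
  pt := T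
  π :=
    { app := fun x => s ≫ F.map (SimplexCategory.const ⦋0⦌ x 0)
      naturality := fun x y g => by
        dsimp
        rw [Category.id_comp, Category.assoc, ← F.map_comp, SimplexCategory.const_comp]
        exact const_eq F s hs _ _ (Fin.zero_le _) }

lemma exact_π_d₀ (F : SimplexCategory ⥤ A) :
    (ShortComplex.mk _ _ (π_d₀ F)).Exact ∧ Mono (limit.π F ⦋0⦌) := by
  have hw : ∀ (x : SimplexCategory) , limit.π F x =
      limit.π F ⦋0⦌ ≫ F.map (SimplexCategory.const ⦋0⦌ x 0) := fun x => (limit.w F _).symm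
  refine ⟨?_, ⟨fun a b h => limit.hom_ext fun x => ?_⟩⟩
  · rw [ShortComplex.exact_iff_exact_up_to_refinements]
    intro T (s : T ⟶ F.obj ⦋0⦌) hs
    change s ≫ ((K A).obj F).d 0 1 = 0 at hs
    rw [K_d₀] at hs
    have hs' : s ≫ F.map (SimplexCategory.δ 0) = s ≫ F.map (SimplexCategory.δ 1) :=
      sub_eq_zero.1 ((Preadditive.comp_sub _ _ _).symm.trans hs)
    refine ⟨T, 𝟙 T, inferInstance, limit.lift F (coneOf F s hs'), ?_⟩
    change 𝟙 T ≫ s = limit.lift F (coneOf F s hs') ≫ limit.π F ⦋0⦌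
    rw [Category.id_comp, limit.lift_π]
    change s = s ≫ F.map (SimplexCategory.const ⦋0⦌ ⦋0⦌ 0)
    rw [show SimplexCategory.const ⦋0⦌ ⦋0⦌ 0 = 𝟙 ⦋0⦌ from by ext j; fin_cases j; rfl, F.map_id,
      Category.comp_id]
  · rw [hw x, reassoc_of% h]

/-- The comparison map. -/
def zeroMap (F : SimplexCategory ⥤ A) : limit F ⟶ ((K A).obj F).homology 0 :=
  ((K A).obj F).liftCycles (limit.π F ⦋0⦌) 1 (by simp) (π_d₀ F) ≫ ((K A).obj F).homologyπ 0

instance (F : SimplexCategory ⥤ A) : IsIso (zeroMap F) := by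
  have h : IsIso (((K A).obj F).liftCycles (limit.π F ⦋0⦌) 1 (by simp) (π_d₀ F)) :=
    (CochainComplex.isIso_liftCycles_iff _ _ _).2 (exact_π_d₀ F)
  exact @IsIso.comp_isIso _ _ _ _ _ _ _ h (inferInstanceAs (IsIso ((K A).obj F).isoHomologyπ₀.hom))

/-- The limit is the zeroth cohomology of the coface complex. -/
def limIso : (lim : (SimplexCategory ⥤ A) ⥤ A) ≅ K A ⋙ HomologicalComplex.homologyFunctor A _ 0 :=
  NatIso.ofComponents (fun F => asIso (zeroMap F)) fun {F G} φ => by
    change limMap φ ≫ zeroMap G = zeroMap F ≫ HomologicalComplex.homologyMap ((K A).map φ) 0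
    simp only [zeroMap, Category.assoc, HomologicalComplex.homologyπ_naturality]
    rw [← Category.assoc, ← Category.assoc, HomologicalComplex.liftCycles_comp_cyclesMap]
    congr 1
    rw [← cancel_mono (((K A).obj G).iCycles 0)]
    simp only [Category.assoc, HomologicalComplex.liftCycles_i]
    exact limMap_π φ ⦋0⦌

lemma shortExact_K {S : ShortComplex (SimplexCategory ⥤ A)} (hS : S.ShortExact) :
    (S.map (K A)).ShortExact := by
  refine HomologicalComplex.shortExact_of_degreewise_shortExact _ fun n => ?_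
  exact hS.map_of_exact ((evaluation SimplexCategory A).obj ⦋n⦌)

variable [EnoughInjectives (SimplexCategory ⥤ A)]
  [(lim : (SimplexCategory ⥤ A) ⥤ A).Additive]

theorem nonempty_iso (F : SimplexCategory ⥤ A) (n : ℕ) :
    Nonempty (((lim : (SimplexCategory ⥤ A) ⥤ A).rightDerived n).obj F ≅
      ((K A).obj F).homology n) := by
  induction n generalizing F with
  | zero => exact ⟨((lim.rightDerivedZeroIsoSelf) ≪≫ limIso).app F⟩
  | succ n ih =>
    let L : (SimplexCategory ⥤ A) ⥤ A := lim
    let J := Injective.under F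
    let S : ShortComplex (SimplexCategory ⥤ A) :=
      ShortComplex.mk (Injective.ι F) (cokernel.π (Injective.ι F)) (cokernel.condition _)
    have hS : S.ShortExact :=
      { exact := ShortComplex.exact_of_g_is_cokernel _ (cokernelIsCokernel (Injective.ι F)) }
    obtain ⟨D⟩ := RDerLES.nonempty_derivedLES (F := L)
    have hK := shortExact_K (A := A) hS
    have z : ∀ k : ℕ, IsZero ((L.rightDerived (k + 1)).obj S.X₂) := fun k =>
      L.isZero_rightDerived_obj_injective_succ k J
    have z' : ∀ k : ℕ, IsZero ((S.map (K A)).X₂.homology (k + 1)) := fun k =>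
      (exactAt_of_injective J k).isZero_homology
    have e₁ := D.exact₁ S hS n (n + 1) rfl
    haveI : Epi (D.δ S hS n (n + 1) rfl) := e₁.epi_f ((z n).eq_of_tgt _ _)
    haveI : Epi (hK.δ n (n + 1) rfl) := hK.epi_δ n (n + 1) rfl (z' n)
    cases n with
    | zero =>
      let η := (L.rightDerivedZeroIsoSelf) ≪≫ limIso (A := A)
      have c₁ := (D.exact₃ S hS 0 (0 + 1) rfl).gIsCokernel
      have c₂ := (hK.homology_exact₃ 0 (0 + 1) rfl).gIsCokernel
      refine ⟨c₁.coconePointUniqueUpToIso (cokernelIsCokernel _) ≪≫ ?_ ≪≫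
        (c₂.coconePointUniqueUpToIso (cokernelIsCokernel _)).symm⟩
      exact cokernel.mapIso _ _ (η.app S.X₂) (η.app S.X₃) (η.hom.naturality S.g)
    | succ m =>
      haveI : Mono (D.δ S hS (m + 1) (m + 1 + 1) rfl) :=
        (D.exact₃ S hS (m + 1) (m + 1 + 1) rfl).mono_g ((z m).eq_of_src _ _)
      haveI : IsIso (D.δ S hS (m + 1) (m + 1 + 1) rfl) := isIso_of_mono_of_epi _
      haveI : IsIso (hK.δ (m + 1) (m + 1 + 1) rfl) := hK.isIso_δ _ _ rfl (z' m) (z' (m + 1))
      obtain ⟨e⟩ := ih S.X₃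
      exact ⟨(asIso (D.δ S hS (m + 1) (m + 1 + 1) rfl)).symm ≪≫ e ≪≫
        asIso (hK.δ (m + 1) (m + 1 + 1) rfl)⟩

end Groth.Agent.CosimpLim16
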